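import Mathlib

/-!
# General lemmas for small transitive permutation groups
-/

set_option autoImplicit false

namespace Cfsg.Agent.Lib.H4.Deg7

open Equiv MulAction
open scoped Pointwise

/-- **Sylow trick**: if `K ≤ S` has order divisible by the full `p`-part `p ^ k` of `|S|`,
then every `p`-element of `S` has a conjugate in `K`. -/
theorem exists_conj_mem_of_sylow {S : Type*} [Group S] [Finite S] (p k : ℕ) [hp : Fact p.Prime]
    (hS : ¬ p ^ (k + 1) ∣ Nat.card S) (K : Subgroup S) (hK : p ^ k ∣ Nat.card K) (s : S)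
    (hs : IsPGroup p (Subgroup.zpowers s)) : ∃ g : S, g * s * g⁻¹ ∈ K := by
  obtain ⟨Q, hQ⟩ := hs.exists_le_sylow
  obtain ⟨PK⟩ : Nonempty (Sylow p K) := inferInstance
  have hPK : IsPGroup p ((PK : Subgroup K).map K.subtype) := PK.2.map _
  obtain ⟨Q₁, hQ₁⟩ := hPK.exists_le_sylow
  have hKpos : Nat.card K ≠ 0 := Nat.card_pos.ne'
  have hSpos : Nat.card S ≠ 0 := Nat.card_pos.ne'
  have h1 : k ≤ (Nat.card K).factorization p :=
    (Nat.Prime.pow_dvd_iff_le_factorization hp.out hKpos).1 hK
  have h2 : (Nat.card S).factorization p < k + 1 := by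
    by_contra h
    push Not at h
    exact hS ((Nat.Prime.pow_dvd_iff_le_factorization hp.out hSpos).2 h)
  have hc1 : Nat.card ((PK : Subgroup K).map K.subtype) = p ^ (Nat.card K).factorization p := by
    rw [Subgroup.card_map_of_injective K.subtype_injective, Sylow.card_eq_multiplicity]
  have hc2 : Nat.card (Q₁ : Subgroup S) = p ^ (Nat.card S).factorization p :=
    Sylow.card_eq_multiplicity Q₁
  have heq : (PK : Subgroup K).map K.subtype = (Q₁ : Subgroup S) := by
    apply Subgroup.eq_of_le_of_card_ge hQ₁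
    rw [hc1, hc2]
    exact Nat.pow_le_pow_right hp.out.pos (by omega)
  obtain ⟨g, hg⟩ := MulAction.exists_smul_eq S Q Q₁
  refine ⟨g, ?_⟩
  have h3 : g * s * g⁻¹ ∈ (Q₁ : Subgroup S) := by
    have h5 : ((g • Q : Sylow p S) : Subgroup S) = MulAut.conj g • (Q : Subgroup S) :=
      Sylow.coe_subgroup_smul
    rw [← hg, h5]
    have h4 : s ∈ (Q : Subgroup S) := hQ (Subgroup.mem_zpowers s)
    have := Subgroup.smul_mem_pointwise_smul s (MulAut.conj g) (Q : Subgroup S) h4
    rwa [MulAut.smul_def, MulAut.conj_apply] at this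
  rw [← heq] at h3
  obtain ⟨y, -, hy⟩ := h3
  rw [← hy]
  exact y.2

/-- orbit–stabilizer for a transitive action -/
theorem card_eq_card_mul_stabilizer (G : Type*) {X : Type*} [Group G] [MulAction G X]
    [IsPretransitive G X] (x : X) : Nat.card G = Nat.card X * Nat.card (stabilizer G x) := by
  rw [← index_stabilizer_of_transitive G x, Subgroup.index_mul_card]

/-- a transitive group on `n` points has order divisible by `n` -/
theorem card_dvd_of_transitive (G : Type*) {X : Type*} [Group G] [MulAction G X]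
    [IsPretransitive G X] [Nonempty X] : Nat.card X ∣ Nat.card G := by
  obtain ⟨x⟩ : Nonempty X := inferInstance
  exact ⟨_, card_eq_card_mul_stabilizer G x⟩

/-- the centralizer of a full cycle consists of its powers -/
theorem mem_zpowers_of_commute_full_cycle {α : Type*} [Fintype α] [DecidableEq α] {t z : Perm α}
    (ht : t.IsCycle) (hfull : ∀ a, t a ≠ a) (hz : Commute z t) : z ∈ Subgroup.zpowers t := by
  rcases isEmpty_or_nonempty α with he | ⟨⟨a₀⟩⟩
  · have : z = 1 := Subsingleton.elim _ _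
    rw [this]; exact Subgroup.one_mem _
  obtain ⟨k, hk⟩ := ht.exists_zpow_eq (hfull a₀) (hfull (z a₀))
  refine ⟨k, ?_⟩
  ext b
  obtain ⟨i, hi⟩ := ht.exists_zpow_eq (hfull a₀) (hfull b)
  have hc : Commute z (t ^ i) := hz.zpow_right i
  have hc2 : Commute (t ^ k) (t ^ i) := (Commute.refl t).zpow_zpow k i
  calc (t ^ k) b = (t ^ k) ((t ^ i) a₀) := by rw [hi]
    _ = ((t ^ k) * (t ^ i)) a₀ := rfl
    _ = ((t ^ i) * (t ^ k)) a₀ := by rw [hc2.eq]
    _ = (t ^ i) (z a₀) := by rw [Perm.mul_apply, hk]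
    _ = ((t ^ i) * z) a₀ := rfl
    _ = (z * (t ^ i)) a₀ := by rw [hc.eq]
    _ = z b := by rw [Perm.mul_apply, hi]

end Cfsg.Agent.Lib.H4.Deg7
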