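import Mathlib
import Cfsg.Agent.Lib.H4.Deg7.Basic

/-!
# Two-point stabilizers in doubly transitive groups of degree 7
-/

set_option autoImplicit false
set_option linter.unusedSectionVars false

namespace Cfsg.Agent.Lib.H4.Deg7

open Equiv MulAction

variable {α : Type*} [Fintype α] [DecidableEq α]

/-- the pointwise stabilizer of two points in the symmetric group -/
def fix2 (a b : α) : Subgroup (Perm α) := stabilizer (Perm α) a ⊓ stabilizer (Perm α) b

theorem mem_fix2 {a b : α} {g : Perm α} : g ∈ fix2 a b ↔ g a = a ∧ g b = b := by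
  unfold fix2
  rw [Subgroup.mem_inf, mem_stabilizer_iff, mem_stabilizer_iff]
  rfl

/-- the embedding `![a, b]` -/
def emb2 (a b : α) (hab : a ≠ b) : Fin 2 ↪ α where
  toFun := ![a, b]
  inj' := by
    intro i j h
    fin_cases i <;> fin_cases j
    · rfl
    · exact (hab h).elim
    · exact (hab h.symm).elim
    · rfl

@[simp] theorem emb2_zero (a b : α) (hab : a ≠ b) : emb2 a b hab 0 = a := rfl
@[simp] theorem emb2_one (a b : α) (hab : a ≠ b) : emb2 a b hab 1 = b := rfl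

theorem card_emb (hα : Fintype.card α = 7) : Nat.card (Fin 2 ↪ α) = 42 := by
  rw [Nat.card_eq_fintype_card, Fintype.card_embedding_eq, hα, Fintype.card_fin]
  rfl

theorem card_perm7 (hα : Fintype.card α = 7) : Nat.card (Perm α) = 5040 := by
  rw [Nat.card_eq_fintype_card, Fintype.card_perm, hα]
  rfl

theorem stabilizer_emb2 (a b : α) (hab : a ≠ b) :
    stabilizer (Perm α) (emb2 a b hab) = fix2 a b := by
  ext g
  rw [mem_stabilizer_iff, mem_fix2]
  constructor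
  · intro h
    exact ⟨congrArg (fun y : Fin 2 ↪ α => y 0) h, congrArg (fun y : Fin 2 ↪ α => y 1) h⟩
  · rintro ⟨h0, h1⟩
    ext i
    fin_cases i
    · exact h0
    · exact h1

theorem card_fix2 (hα : Fintype.card α = 7) {a b : α} (hab : a ≠ b) :
    Nat.card (fix2 a b) = 120 := by
  haveI : IsPretransitive (Perm α) (Fin 2 ↪ α) := Equiv.Perm.isMultiplyPretransitive α 2
  have h := card_eq_card_mul_stabilizer (Perm α) (emb2 a b hab)
  rw [card_emb hα, card_perm7 hα, stabilizer_emb2] at h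
  omega

theorem card_eq_42_mul (hα : Fintype.card α = 7) (G : Subgroup (Perm α))
    (h2 : IsMultiplyPretransitive G α 2) {a b : α} (hab : a ≠ b) :
    Nat.card G = 42 * Nat.card ↥(G ⊓ fix2 a b) := by
  have h := @card_eq_card_mul_stabilizer ↥G (Fin 2 ↪ α) _ Function.Embedding.instMulAction h2
    (emb2 a b hab)
  rw [card_emb hα] at h
  rw [h]
  congr 1
  apply Nat.card_congr
  refine
    { toFun := fun g => ⟨((g : ↥G) : Perm α), (g : ↥G).2, ?_⟩
      invFun := fun g => ⟨⟨(g : Perm α), g.2.1⟩, ?_⟩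
      left_inv := fun g => rfl
      right_inv := fun g => rfl }
  · have hg := g.2
    rw [mem_stabilizer_iff] at hg
    exact mem_fix2.2
      ⟨congrArg (fun y : Fin 2 ↪ α => y 0) hg, congrArg (fun y : Fin 2 ↪ α => y 1) hg⟩
  · rw [mem_stabilizer_iff]
    obtain ⟨h0, h1⟩ := mem_fix2.1 g.2.2
    ext i
    fin_cases i
    · exact h0
    · exact h1

theorem exists_three (hα : Fintype.card α = 7) (a b : α) :
    ∃ c d e : α, c ≠ a ∧ c ≠ b ∧ d ≠ a ∧ d ≠ b ∧ e ≠ a ∧ e ≠ b ∧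
      c ≠ d ∧ c ≠ e ∧ d ≠ e := by
  have hcard : 2 < (({a, b} : Finset α)ᶜ).card := by
    rw [Finset.card_compl, hα]
    have : ({a, b} : Finset α).card ≤ 2 := Finset.card_insert_le _ _
    omega
  obtain ⟨c, d, e, hc, hd, he, hcd, hce, hde⟩ := Finset.two_lt_card_iff.1 hcard
  simp only [Finset.mem_compl, Finset.mem_insert, Finset.mem_singleton, not_or] at hc hd he
  exact ⟨c, d, e, hc.1, hc.2, hd.1, hd.2, he.1, he.2, hcd, hce, hde⟩

theorem swap_mem_fix2 {a b c d : α} (hc0 : c ≠ a) (hc1 : c ≠ b) (hd0 : d ≠ a)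
    (hd1 : d ≠ b) : swap c d ∈ fix2 a b := by
  rw [mem_fix2]
  exact ⟨swap_apply_of_ne_of_ne hc0.symm hd0.symm, swap_apply_of_ne_of_ne hc1.symm hd1.symm⟩

theorem orderOf_swap' {c d : α} (hcd : c ≠ d) : orderOf (swap c d) = 2 := by
  apply orderOf_eq_prime
  · rw [pow_two, Equiv.swap_mul_self]
  · intro h
    exact hcd (Equiv.swap_eq_one_iff.1 h)

theorem isSwap_conj {g s : Perm α} (hs : s.IsSwap) : (g * s * g⁻¹).IsSwap := by
  obtain ⟨c, d, hcd, rfl⟩ := hs
  refine ⟨g c, g d, fun h => hcd (g.injective h), ?_⟩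
  rw [Equiv.mul_swap_eq_swap_mul, mul_assoc, mul_inv_cancel, mul_one]

theorem isThreeCycle_conj {g s : Perm α} (hs : s.IsThreeCycle) : (g * s * g⁻¹).IsThreeCycle := by
  unfold Equiv.Perm.IsThreeCycle at hs ⊢
  rw [Equiv.Perm.cycleType_conj, hs]

theorem card_subgroupOf_inf (G : Subgroup (Perm α)) (a b : α) :
    Nat.card ((G ⊓ fix2 a b).subgroupOf (fix2 a b)) = Nat.card ↥(G ⊓ fix2 a b) :=
  Nat.card_congr (Subgroup.subgroupOfEquivOfLe inf_le_right).toEquiv

/-- if `8 ∣ |G_{ab}|` then `G` contains a swap -/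
theorem exists_swap_mem (hα : Fintype.card α = 7) (G : Subgroup (Perm α)) {a b : α}
    (hab : a ≠ b) (h8 : 8 ∣ Nat.card ↥(G ⊓ fix2 a b)) : ∃ s : Perm α, s.IsSwap ∧ s ∈ G := by
  obtain ⟨c, d, e, hc0, hc1, hd0, hd1, -, -, hcd, -, -⟩ := exists_three hα a b
  haveI : Fact (Nat.Prime 2) := ⟨Nat.prime_two⟩
  have hS : ¬ 2 ^ (3 + 1) ∣ Nat.card (fix2 a b) := by
    rw [card_fix2 hα hab]; decide
  have hK : 2 ^ 3 ∣ Nat.card ((G ⊓ fix2 a b).subgroupOf (fix2 a b)) := by
    rw [card_subgroupOf_inf]; exact h8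
  let s : ↥(fix2 a b) := ⟨swap c d, swap_mem_fix2 hc0 hc1 hd0 hd1⟩
  have hs : IsPGroup 2 (Subgroup.zpowers s) := by
    apply IsPGroup.of_card (n := 1)
    rw [Nat.card_zpowers, pow_one]
    have : orderOf s = orderOf (swap c d) := (Subgroup.orderOf_coe s).symm
    rw [this]
    exact orderOf_swap' hcd
  obtain ⟨g, hg⟩ := exists_conj_mem_of_sylow 2 3 hS _ hK s hs
  refine ⟨(g : Perm α) * swap c d * (g : Perm α)⁻¹, isSwap_conj ⟨c, d, hcd, rfl⟩, ?_⟩
  rw [Subgroup.mem_subgroupOf] at hg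
  exact hg.1

/-- if `3 ∣ |G_{ab}|` then `G` contains a three-cycle -/
theorem exists_threeCycle_mem (hα : Fintype.card α = 7) (G : Subgroup (Perm α)) {a b : α}
    (hab : a ≠ b) (h3 : 3 ∣ Nat.card ↥(G ⊓ fix2 a b)) :
    ∃ s : Perm α, s.IsThreeCycle ∧ s ∈ G := by
  obtain ⟨c, d, e, hc0, hc1, hd0, hd1, he0, he1, hcd, hce, hde⟩ := exists_three hα a b
  haveI : Fact (Nat.Prime 3) := ⟨Nat.prime_three⟩
  have hS : ¬ 3 ^ (1 + 1) ∣ Nat.card (fix2 a b) := by
    rw [card_fix2 hα hab]; decide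
  have hK : 3 ^ 1 ∣ Nat.card ((G ⊓ fix2 a b).subgroupOf (fix2 a b)) := by
    rw [card_subgroupOf_inf, pow_one]; exact h3
  have h3c : (swap c d * swap c e).IsThreeCycle :=
    Equiv.Perm.isThreeCycle_swap_mul_swap_same hcd hce hde
  let s : ↥(fix2 a b) := ⟨swap c d * swap c e,
    Subgroup.mul_mem _ (swap_mem_fix2 hc0 hc1 hd0 hd1) (swap_mem_fix2 hc0 hc1 he0 he1)⟩
  have hs : IsPGroup 3 (Subgroup.zpowers s) := by
    apply IsPGroup.of_card (n := 1)
    rw [Nat.card_zpowers, pow_one]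
    have : orderOf s = orderOf (swap c d * swap c e) := (Subgroup.orderOf_coe s).symm
    rw [this]
    exact h3c.orderOf
  obtain ⟨g, hg⟩ := exists_conj_mem_of_sylow 3 1 hS _ hK s hs
  refine ⟨(g : Perm α) * (swap c d * swap c e) * (g : Perm α)⁻¹, isThreeCycle_conj h3c, ?_⟩
  rw [Subgroup.mem_subgroupOf] at hg
  exact hg.1

theorem card_inf_fix2_dvd (hα : Fintype.card α = 7) (G : Subgroup (Perm α)) {a b : α}
    (hab : a ≠ b) : Nat.card ↥(G ⊓ fix2 a b) ∣ 120 := by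
  rw [← card_fix2 hα hab]
  exact Subgroup.card_dvd_of_le inf_le_right

/-- the possible orders of the two-point stabilizer -/
theorem card_stab_cases {h : ℕ} (hdvd : h ∣ 120) (h8 : ¬ 8 ∣ h) (h3 : ¬ 3 ∣ h) :
    h = 1 ∨ h = 2 ∨ h = 4 ∨ h = 5 ∨ h = 10 ∨ h = 20 := by
  have hmem : h ∈ Nat.divisors 120 := Nat.mem_divisors.2 ⟨hdvd, by norm_num⟩
  have hdiv : Nat.divisors 120 = {1, 2, 3, 4, 5, 6, 8, 10, 12, 15, 20, 24, 30, 40, 60, 120} := by
    decide
  rw [hdiv] at hmem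
  simp only [Finset.mem_insert, Finset.mem_singleton] at hmem
  rcases hmem with rfl | rfl | rfl | rfl | rfl | rfl | rfl | rfl | rfl | rfl | rfl | rfl | rfl |
    rfl | rfl | rfl <;> first | omega | (exfalso; revert h8 h3; decide)

end Cfsg.Agent.Lib.H4.Deg7
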