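import Mathlib
import Cfsg.Agent.Lib.H4.Deg7.Stab

/-!
# The Sylow 7-subgroups of a transitive group of degree 7
-/

set_option autoImplicit false
set_option linter.unusedSectionVars false

namespace Cfsg.Agent.Lib.H4.Deg7

open Equiv MulAction

variable {α : Type*} [Fintype α] [DecidableEq α]

instance fact7 : Fact (Nat.Prime 7) := ⟨by norm_num⟩

theorem card_dvd_5040 (hα : Fintype.card α = 7) (G : Subgroup (Perm α)) : Nat.card G ∣ 5040 := by
  rw [← card_perm7 hα]
  exact Subgroup.card_subgroup_dvd_card G

theorem seven_dvd_card (hα : Fintype.card α = 7) (G : Subgroup (Perm α))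
    [IsPretransitive G α] : 7 ∣ Nat.card G := by
  haveI : Nonempty α := by
    rw [← Fintype.card_pos_iff, hα]; norm_num
  have := card_dvd_of_transitive G (X := α)
  rwa [Nat.card_eq_fintype_card, hα] at this

theorem card_sylow7 (hα : Fintype.card α = 7) (G : Subgroup (Perm α)) [IsPretransitive G α]
    (P : Sylow 7 G) : Nat.card P = 7 := by
  obtain ⟨k, hk⟩ := P.2.exists_card_eq
  have h1 : 7 ∣ Nat.card P := P.dvd_card_of_dvd_card (seven_dvd_card hα G)
  have h2 : Nat.card P ∣ 5040 := (Subgroup.card_subgroup_dvd_card _).trans (card_dvd_5040 hα G)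
  rw [hk] at h1 h2 ⊢
  have hk1 : k ≠ 0 := by
    rintro rfl
    norm_num at h1
  have hk2 : k < 2 := by
    by_contra h
    push Not at h
    have : 7 ^ 2 ∣ 5040 := (pow_dvd_pow 7 h).trans h2
    norm_num at this
  have : k = 1 := by omega
  rw [this, pow_one]

theorem centralizer_sylow7 (hα : Fintype.card α = 7) (G : Subgroup (Perm α))
    [IsPretransitive G α] (P : Sylow 7 G) :
    Subgroup.centralizer ((P : Subgroup G) : Set G) = (P : Subgroup G) := by
  have hP := card_sylow7 hα G P
  haveI : Fact (Nat.Prime (Nat.card (P : Subgroup G))) := by rw [hP]; exact fact7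
  haveI hcyc : IsCyclic (P : Subgroup G) := isCyclic_of_prime_card rfl
  apply le_antisymm
  · intro z hz
    -- a generator
    have hnt : Nontrivial (P : Subgroup G) := by
      rw [← Finite.one_lt_card_iff_nontrivial, hP]; norm_num
    obtain ⟨t, ht⟩ := exists_ne (1 : (P : Subgroup G))
    have hto : orderOf t = 7 := by
      have h1 : orderOf t ∣ 7 := by
        have := orderOf_dvd_natCard t
        rwa [hP] at this
      rcases (Nat.dvd_prime (by norm_num : Nat.Prime 7)).1 h1 with h | h
      · exact (ht (orderOf_eq_one_iff.1 h)).elim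
      · exact h
    have hto' : orderOf (((t : (P : Subgroup G)) : G) : Perm α) = 7 := by
      rw [Subgroup.orderOf_coe, Subgroup.orderOf_coe]; exact hto
    have hα' : (Fintype.card α).Prime := by rw [hα]; norm_num
    have hcyc : ((((t : (P : Subgroup G)) : G) : Perm α)).IsCycle :=
      Equiv.Perm.isCycle_of_prime_order'' hα' (hto'.trans hα.symm)
    have hfull : ∀ a, ((((t : (P : Subgroup G)) : G) : Perm α)) a ≠ a := by
      have h1 := hcyc.orderOf
      have h1' : ((((t : (P : Subgroup G)) : G) : Perm α)).support.card = Fintype.card α := by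
        rw [← h1, hto', hα]
      have h2 : ((((t : (P : Subgroup G)) : G) : Perm α)).support = Finset.univ :=
        Finset.eq_univ_of_card _ h1'
      intro a
      rw [← Equiv.Perm.mem_support, h2]; exact Finset.mem_univ a
    have hcomm : Commute ((z : G) : Perm α) ((((t : (P : Subgroup G)) : G) : Perm α)) := by
      have := Subgroup.mem_centralizer_iff.1 hz (t : G) t.2
      have h2 := congrArg (fun y : G => (y : Perm α)) this
      exact h2.symm
    obtain ⟨k, hk⟩ := mem_zpowers_of_commute_full_cycle hcyc hfull hcomm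
    have : z = (t : G) ^ k := by
      apply Subtype.ext
      rw [← hk]
      simp
    rw [this]
    exact Subgroup.zpow_mem _ t.2 k
  · haveI : IsMulCommutative (P : Subgroup G) := ⟨⟨fun a b => by
      obtain ⟨g, hg⟩ := hcyc.exists_generator
      obtain ⟨i, rfl⟩ := Subgroup.mem_zpowers_iff.1 (hg a)
      obtain ⟨j, rfl⟩ := Subgroup.mem_zpowers_iff.1 (hg b)
      exact ((Commute.refl g).zpow_zpow i j).eq⟩⟩
    exact Subgroup.le_centralizer (P : Subgroup G)

/-- the normalizer of a Sylow 7-subgroup has order `7 d` with `d ∣ 6` -/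
theorem card_normalizer_sylow7 (hα : Fintype.card α = 7) (G : Subgroup (Perm α))
    [IsPretransitive G α] (P : Sylow 7 G) :
    ∃ d, d ∣ 6 ∧ Nat.card (Subgroup.normalizer ((P : Subgroup G) : Set G)) = 7 * d := by
  have hP := card_sylow7 hα G P
  haveI : Fact (Nat.Prime (Nat.card (P : Subgroup G))) := by rw [hP]; exact fact7
  haveI hcyc : IsCyclic (P : Subgroup G) := isCyclic_of_prime_card rfl
  have key := Subgroup.card_dvd_of_injective _
    (QuotientGroup.kerLift_injective (P : Subgroup G).normalizerMonoidHom)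
  rw [Subgroup.normalizerMonoidHom_ker, ← Subgroup.index, ← Subgroup.relIndex,
    IsCyclic.card_mulAut, hP] at key
  have h6 : Nat.totient 7 = 6 := by
    rw [Nat.totient_prime (by norm_num)]
  rw [h6, centralizer_sylow7 hα G P] at key
  refine ⟨_, key, ?_⟩
  have h := Subgroup.relIndex_mul_relIndex ⊥ (P : Subgroup G)
    (Subgroup.normalizer ((P : Subgroup G) : Set G)) bot_le Subgroup.le_normalizer
  rw [Subgroup.relIndex_bot_left, Subgroup.relIndex_bot_left, hP] at h
  exact h.symm

/-- the Sylow count -/
theorem sylow7_count (hα : Fintype.card α = 7) (G : Subgroup (Perm α))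
    [IsPretransitive G α] :
    ∃ n d, n % 7 = 1 ∧ d ∣ 6 ∧ Nat.card G = n * (7 * d) ∧ Nat.card (Sylow 7 G) = n ∧
      ∀ P : Sylow 7 G, Nat.card (Subgroup.normalizer ((P : Subgroup G) : Set G)) = 7 * d := by
  obtain ⟨P⟩ : Nonempty (Sylow 7 G) := inferInstance
  obtain ⟨d, hd, hN⟩ := card_normalizer_sylow7 hα G P
  refine ⟨Nat.card (Sylow 7 G), d, ?_, hd, ?_, rfl, ?_⟩
  · have := card_sylow_modEq_one 7 G
    exact this
  · have h1 : Nat.card (Sylow 7 G) = (Subgroup.normalizer ((P : Subgroup G) : Set G)).index :=
      Sylow.card_eq_index_normalizer P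
    rw [h1, ← hN, Subgroup.index_mul_card]
  · intro Q
    have h1 : Nat.card (Sylow 7 G) = (Subgroup.normalizer ((P : Subgroup G) : Set G)).index :=
      Sylow.card_eq_index_normalizer P
    have h2 : Nat.card (Sylow 7 G) = (Subgroup.normalizer ((Q : Subgroup G) : Set G)).index :=
      Sylow.card_eq_index_normalizer Q
    have h3 := Subgroup.index_mul_card (Subgroup.normalizer ((P : Subgroup G) : Set G))
    have h4 := Subgroup.index_mul_card (Subgroup.normalizer ((Q : Subgroup G) : Set G))
    rw [← h1] at h3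
    rw [← h2] at h4
    have hpos : 0 < Nat.card (Sylow 7 G) := Nat.card_pos
    rw [← hN]
    exact Nat.eq_of_mul_eq_mul_left hpos (h4.trans h3.symm)

end Cfsg.Agent.Lib.H4.Deg7
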