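import Mathlib
import Cfsg.Agent.Lib.H4.Deg7.Syl7

/-!
# Normal subgroups of primitive groups, transfer complements
-/

set_option autoImplicit false
set_option linter.unusedSectionVars false

namespace Cfsg.Agent.Lib.H4.Deg7

open Equiv MulAction

/-- extensions of solvable by solvable are solvable -/
theorem isSolvable_of_normal {G : Type*} [Group G] (N : Subgroup G) [N.Normal]
    (h1 : Group.IsSolvable N) (h2 : Group.IsSolvable (G ⧸ N)) : Group.IsSolvable G := by
  apply Group.isSolvable_of_ker_le_range N.subtype (QuotientGroup.mk' N)
  rw [QuotientGroup.ker_mk', Subgroup.range_subtype]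

/-- Burnside's transfer theorem, as the existence of a normal complement -/
theorem exists_normal_complement {G : Type*} [Group G] [Finite G] {p : ℕ} [Fact p.Prime]
    (P : Sylow p G)
    (hP : Subgroup.normalizer ((P : Subgroup G) : Set G) ≤
      Subgroup.centralizer ((P : Subgroup G) : Set G)) :
    ∃ K : Subgroup G, K.Normal ∧ Nat.card K * Nat.card (P : Subgroup G) = Nat.card G := by
  have h := MonoidHom.ker_transferSylow_isComplement' P hP
  exact ⟨_, MonoidHom.normal_ker _, h.card_mul_card⟩

variable {α : Type*} [Fintype α] [DecidableEq α]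

/-- a nontrivial normal subgroup of a primitive permutation group is transitive -/
theorem isPretransitive_of_normal (G : Subgroup (Perm α)) (hprim : IsPreprimitive G α)
    (K : Subgroup G) [K.Normal] (hK : K ≠ ⊥) : IsPretransitive K α := by
  haveI := hprim
  apply IsQuasiPreprimitive.isPretransitive_of_normal (G := G) (N := K)
  intro hfix
  apply hK
  rw [eq_bot_iff]
  intro k hk
  rw [Subgroup.mem_bot]
  apply Subtype.ext
  ext a
  have ha : a ∈ fixedPoints K α := by rw [hfix]; exact Set.mem_univ a
  have := ha ⟨k, hk⟩
  exact this

/-- the image in `Perm α` of a subgroup of `G` -/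
def img (G : Subgroup (Perm α)) (K : Subgroup G) : Subgroup (Perm α) := K.map G.subtype

theorem img_le (G : Subgroup (Perm α)) (K : Subgroup G) : img G K ≤ G :=
  Subgroup.map_subtype_le K

/-- the isomorphism with the image -/
noncomputable def imgEquiv (G : Subgroup (Perm α)) (K : Subgroup G) : K ≃* img G K :=
  K.equivMapOfInjective G.subtype G.subtype_injective

theorem imgEquiv_coe (G : Subgroup (Perm α)) (K : Subgroup G) (k : K) :
    ((imgEquiv G K k : img G K) : Perm α) = ((k : G) : Perm α) := rfl

theorem card_img (G : Subgroup (Perm α)) (K : Subgroup G) : Nat.card (img G K) = Nat.card K :=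
  (Nat.card_congr (imgEquiv G K).toEquiv).symm

theorem isPretransitive_img (G : Subgroup (Perm α)) (K : Subgroup G)
    (h : IsPretransitive K α) : IsPretransitive (img G K) α := by
  refine ⟨fun a b => ?_⟩
  obtain ⟨k, hk⟩ := h.exists_smul_eq a b
  exact ⟨imgEquiv G K k, hk⟩

theorem isSolvable_of_img (G : Subgroup (Perm α)) (K : Subgroup G)
    (h : Group.IsSolvable (img G K)) : Group.IsSolvable K :=
  Group.isSolvable_of_isSolvable_injective (f := (imgEquiv G K).toMonoidHom)
    (imgEquiv G K).injective

end Cfsg.Agent.Lib.H4.Deg7
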