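import Mathlib
import Cfsg.Agent.Lib.H4.Deg7.Normal
import Cfsg.Agent.Lib.H23.BurnsidePQ
import Cfsg.Agent.S0675

/-!
# A non-solvable transitive group of degree 7 not containing `A₇` has order 168
-/

set_option autoImplicit false
set_option linter.unusedSectionVars false

namespace Cfsg.Agent.Lib.H4.Deg7

open Equiv MulAction

variable {α : Type*} [Fintype α] [DecidableEq α]

/-- a group of order `2 ^ a * 3 ^ b` is solvable -/
theorem isSolvable_of_card_two_three {H : Type*} [Group H] [Finite H] (a b : ℕ)
    (h : Nat.card H = 2 ^ a * 3 ^ b) : Group.IsSolvable H :=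
  Cfsg.Agent.Lib.H23.isSolvable_of_card_eq_prime_pow_mul_prime_pow 2 3 a b Nat.prime_two
    Nat.prime_three h

theorem isSolvable_of_prime_card {H : Type*} [Group H] {p : ℕ} [Fact p.Prime]
    (h : Nat.card H = p) : Group.IsSolvable H := by
  haveI : IsCyclic H := isCyclic_of_prime_card h
  apply Group.isSolvable_of_comm
  intro x y
  obtain ⟨g, hg⟩ := IsCyclic.exists_generator (α := H)
  obtain ⟨i, rfl⟩ := Subgroup.mem_zpowers_iff.1 (hg x)
  obtain ⟨j, rfl⟩ := Subgroup.mem_zpowers_iff.1 (hg y)
  exact ((Commute.refl g).zpow_zpow i j).eq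

theorem card_quotient_of_card {H : Type*} [Group H] [Finite H] (N : Subgroup H) {g n q : ℕ}
    (hg : Nat.card H = g) (hn : Nat.card N = n) (hq : g = q * n) (hn0 : 0 < n) :
    Nat.card (H ⧸ N) = q := by
  have h := Subgroup.card_eq_card_quotient_mul_card_subgroup N
  rw [hg, hn, hq] at h
  exact (Nat.eq_of_mul_eq_mul_right hn0 h).symm

theorem arith {n d h : ℕ} (hn : n % 7 = 1) (hd : d ∣ 6) (heq : 42 * h = n * (7 * d))
    (hh : h = 1 ∨ h = 2 ∨ h = 4 ∨ h = 5 ∨ h = 10 ∨ h = 20) :
    (h = 1 ∧ n = 1 ∧ d = 6) ∨ (h = 4 ∧ n = 8 ∧ d = 3) ∨ (h = 5 ∧ n = 15 ∧ d = 2) ∨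
      (h = 20 ∧ n = 120 ∧ d = 1) := by
  have hdm : d ∈ Nat.divisors 6 := Nat.mem_divisors.2 ⟨hd, by norm_num⟩
  have hdiv : Nat.divisors 6 = {1, 2, 3, 6} := by decide
  rw [hdiv] at hdm
  simp only [Finset.mem_insert, Finset.mem_singleton] at hdm
  rcases hdm with rfl | rfl | rfl | rfl <;>
    rcases hh with rfl | rfl | rfl | rfl | rfl | rfl <;> omega

theorem card_eq_168 (hα : Fintype.card α = 7) (G : Subgroup (Perm α)) [IsPretransitive G α]
    (hG : ¬ Group.IsSolvable G) (hA : ¬ alternatingGroup α ≤ G) : Nat.card G = 168 := by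
  have hα' : (Fintype.card α).Prime := by rw [hα]; norm_num
  have h2 : IsMultiplyPretransitive G α 2 := (Cfsg.Agent.S0675.result hα' G).resolve_left hG
  have hprim : IsPreprimitive G α := isPreprimitive_of_is_two_pretransitive h2
  have hswap : ∀ s : Perm α, s.IsSwap → s ∉ G := by
    intro s hs hsG
    have := Equiv.Perm.subgroup_eq_top_of_isPreprimitive_of_isSwap_mem hprim s hs hsG
    apply hA
    rw [this]
    exact le_top
  have h3c : ∀ s : Perm α, s.IsThreeCycle → s ∉ G := by
    intro s hs hsG
    exact hA (Equiv.Perm.alternatingGroup_le_of_isPreprimitive_of_isThreeCycle_mem hprim hs hsG)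
  obtain ⟨a, b, hab⟩ : ∃ a b : α, a ≠ b := by
    haveI : Nontrivial α := by
      rw [← Fintype.one_lt_card_iff_nontrivial, hα]; norm_num
    exact exists_pair_ne α
  have hcard := card_eq_42_mul hα G h2 hab
  have hdvd := card_inf_fix2_dvd hα G hab
  have h8 : ¬ 8 ∣ Nat.card ↥(G ⊓ fix2 a b) := by
    intro h
    obtain ⟨s, hs, hsG⟩ := exists_swap_mem hα G hab h
    exact hswap s hs hsG
  have h3 : ¬ 3 ∣ Nat.card ↥(G ⊓ fix2 a b) := by
    intro h
    obtain ⟨s, hs, hsG⟩ := exists_threeCycle_mem hα G hab h
    exact h3c s hs hsG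
  obtain ⟨n, d, hn, hd, hGnd, hnS, hN⟩ := sylow7_count hα G
  have hcases := card_stab_cases hdvd h8 h3
  have harith := arith hn hd (hcard.symm.trans hGnd) hcases
  obtain ⟨P⟩ : Nonempty (Sylow 7 G) := inferInstance
  have hP7 := card_sylow7 hα G P
  rcases harith with ⟨hh, hn1, hd6⟩ | ⟨hh, -, -⟩ | ⟨hh, -, -⟩ | ⟨hh, hn120, hd1⟩
  · -- order 42, normal Sylow 7-subgroup
    exfalso
    rw [hh] at hcard
    have hidx : (Subgroup.normalizer ((P : Subgroup G) : Set G)).index = 1 := by
      have h1 : Nat.card (Sylow 7 G) = (Subgroup.normalizer ((P : Subgroup G) : Set G)).index :=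
        Sylow.card_eq_index_normalizer P
      rw [← h1, hnS, hn1]
    haveI hPn : (P : Subgroup G).Normal :=
      Subgroup.normalizer_eq_top_iff.1 (Subgroup.index_eq_one.1 hidx)
    have hq : Nat.card (G ⧸ (P : Subgroup G)) = 6 :=
      card_quotient_of_card (P : Subgroup G) hcard hP7 (by norm_num) (by norm_num)
    apply hG
    apply isSolvable_of_normal (P : Subgroup G)
    · exact isSolvable_of_prime_card hP7
    · exact isSolvable_of_card_two_three 1 1 (by rw [hq]; norm_num)
  · rw [hcard, hh]
  · -- order 210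
    exfalso
    rw [hh] at hcard
    have hcard' : Nat.card G = 210 := by rw [hcard]
    haveI : Fact (Nat.Prime 2) := ⟨Nat.prime_two⟩
    obtain ⟨P2⟩ : Nonempty (Sylow 2 G) := inferInstance
    have hP2 : Nat.card (P2 : Subgroup G) = 2 := by
      obtain ⟨k, hk⟩ := P2.2.exists_card_eq
      have h1 : 2 ∣ Nat.card (P2 : Subgroup G) :=
        P2.dvd_card_of_dvd_card (by rw [hcard']; norm_num)
      have h2' : Nat.card (P2 : Subgroup G) ∣ 210 := by
        rw [← hcard']; exact Subgroup.card_subgroup_dvd_card _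
      rw [hk] at h1 h2' ⊢
      have hk1 : k ≠ 0 := by
        rintro rfl
        norm_num at h1
      have hk2 : k < 2 := by
        by_contra h
        push Not at h
        have : 2 ^ 2 ∣ 210 := (pow_dvd_pow 2 h).trans h2'
        norm_num at this
      have : k = 1 := by omega
      rw [this, pow_one]
    have hcyc : IsCyclic (P2 : Subgroup G) := isCyclic_of_prime_card hP2
    have hmin : (Nat.card G).minFac = 2 := by rw [hcard']; norm_num
    obtain ⟨M, hMn, hMc⟩ := exists_normal_complement P2
      (IsCyclic.normalizer_le_centralizer hmin hcyc)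
    rw [hP2, hcard'] at hMc
    have hM105 : Nat.card M = 105 := by omega
    haveI := hMn
    have hMne : M ≠ ⊥ := by
      intro h
      rw [h, Subgroup.card_bot] at hM105
      norm_num at hM105
    have hMt : IsPretransitive M α := isPretransitive_of_normal G hprim M hMne
    haveI := isPretransitive_img G M hMt
    rcases Cfsg.Agent.S0675.result hα' (img G M) with hs | ht
    · apply hG
      apply isSolvable_of_normal M (isSolvable_of_img G M hs)
      have hq : Nat.card (G ⧸ M) = 2 :=
        card_quotient_of_card M hcard' hM105 (by norm_num) (by norm_num)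
      exact isSolvable_of_prime_card hq
    · have h42 := card_eq_42_mul hα (img G M) ht hab
      rw [card_img, hM105] at h42
      omega
  · -- order 840
    exfalso
    rw [hh] at hcard
    have hcard' : Nat.card G = 840 := by rw [hcard]
    have hNP := hN P
    rw [hd1] at hNP
    have hNeq : Subgroup.normalizer ((P : Subgroup G) : Set G) = (P : Subgroup G) := by
      symm
      apply Subgroup.eq_of_le_of_card_ge Subgroup.le_normalizer
      rw [hNP, hP7]
    obtain ⟨K, hKn, hKc⟩ := exists_normal_complement P (by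
      rw [hNeq, centralizer_sylow7 hα G P])
    rw [hP7, hcard'] at hKc
    have hK120 : Nat.card K = 120 := by omega
    haveI := hKn
    have hKne : K ≠ ⊥ := by
      intro h
      rw [h, Subgroup.card_bot] at hK120
      norm_num at hK120
    haveI hKt : IsPretransitive K α := isPretransitive_of_normal G hprim K hKne
    haveI : Nonempty α := ⟨a⟩
    have := card_dvd_of_transitive K (X := α)
    rw [Nat.card_eq_fintype_card, hα, hK120] at this
    norm_num at this

end Cfsg.Agent.Lib.H4.Deg7
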